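import Cfsg.Agent.Lib.Helper9.TCData.L34M0.Main

set_option autoImplicit false
set_option maxRecDepth 1000000

namespace Cfsg.Agent.Helper9.TCData.L34M0
open Cfsg.Agent.Helper9.TC2 Cfsg.Agent.Helper9.LTC Cfsg.Agent.Helper9.LPerm Cfsg.Agent.Helper9.TCData

theorem f_576 : allRange 576 96 (fun x => chkFixP ptab fixWords x) = true := by decide +kernel

theorem f_672 : allRange 672 96 (fun x => chkFixP ptab fixWords x) = true := by decide +kernel

theorem f_768 : allRange 768 96 (fun x => chkFixP ptab fixWords x) = true := by decide +kernel

theorem f_864 : allRange 864 96 (fun x => chkFixP ptab fixWords x) = true := by decide +kernel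

theorem f_960 : allRange 960 96 (fun x => chkFixP ptab fixWords x) = true := by decide +kernel

theorem f_1056 : allRange 1056 96 (fun x => chkFixP ptab fixWords x) = true := by decide +kernel

end Cfsg.Agent.Helper9.TCData.L34M0
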