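import Cfsg.Agent.Lib.Helper9.TCData.L34M0.S0
import Cfsg.Agent.Lib.Helper9.TCData.L34M0.F0
import Cfsg.Agent.Lib.Helper9.TCData.L34M0.F1
import Cfsg.Agent.Lib.Helper9.TCData.L34M0.F2
import Cfsg.Agent.Lib.Helper9.TCData.L34M0.F3
import Cfsg.Agent.Lib.Helper9.TCData.L34M0.F4

set_option autoImplicit false
set_option maxRecDepth 1000000

namespace Cfsg.Agent.Helper9.TCData.L34M0
open Cfsg.Agent.Helper9.TC2 Cfsg.Agent.Helper9.LTC Cfsg.Agent.Helper9.LPerm Cfsg.Agent.Helper9.TCData

theorem hP1 : ∀ x < ptab.n, chkP1 ptab x = true := by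
  have h : ∀ x < 2880, chkP1 ptab x = true := by
    exact (ext_range (ext_range (ext_range (ext_range (ext_range (ext_range (ext_range (ext_range range_zero p1_0) p1_360) p1_720) p1_1080) p1_1440) p1_1800) p1_2160) p1_2520)
  exact h

theorem hFix : ∀ x < ptab.n, chkFixP ptab fixWords x = true := by
  have h : ∀ x < 2880, chkFixP ptab fixWords x = true := by
    exact (ext_range (ext_range (ext_range (ext_range (ext_range (ext_range (ext_range (ext_range (ext_range (ext_range (ext_range (ext_range (ext_range (ext_range (ext_range (ext_range (ext_range (ext_range (ext_range (ext_range (ext_range (ext_range (ext_range (ext_range (ext_range (ext_range (ext_range (ext_range (ext_range (ext_range range_zero f_0) f_96) f_192) f_288) f_384) f_480) f_576) f_672) f_768) f_864) f_960) f_1056) f_1152) f_1248) f_1344) f_1440) f_1536) f_1632) f_1728) f_1824) f_1920) f_2016) f_2112) f_2208) f_2304) f_2400) f_2496) f_2592) f_2688) f_2784)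
  exact h

theorem pok : POK ptab := ⟨by decide, by decide, hP1⟩

theorem hz_0 : chkW ptab (zWords.getD 0 []) 0 10 2 = true := by decide +kernel

theorem hz_1 : chkW ptab (zWords.getD 1 []) 0 2 2 = true := by decide +kernel

theorem hz_2 : chkW ptab (zWords.getD 2 []) 0 1 1 = true := by decide +kernel

theorem hz_3 : chkW ptab (zWords.getD 3 []) 0 2 3 = true := by decide +kernel

end Cfsg.Agent.Helper9.TCData.L34M0
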